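-- Team project OTS (S5972), package [ANEVEN] by Chevalley-Warning (helper6).
import Mathlib
import Cfsg.Agent.Lib.Helper35.OTS.Defs
import Cfsg.Agent.Lib.Helper27.OHyp.BlkBasic
import Cfsg.Agent.Lib.Helper76.OHyp.Cyc

set_option autoImplicit false
open Matrix

namespace Cfsg.Agent.Lib.Helper6.OTS

open Cfsg.Agent.Lib.Helper23.OHyp Cfsg.Agent.Lib.Helper35.OTS

universe u

/-- Chevalley-Warning: `k` bilinear forms on a space of dimension `> 2 k` over a finite field
have a common nonzero isotropic vector. -/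
theorem cw_common_zero {F : Type u} [Field F] [Fintype F] {V : Type u} [AddCommGroup V]
    [Module F V] [Module.Finite F V] (k : ℕ) (β : Fin k → V →ₗ[F] V →ₗ[F] F)
    (h : 2 * k < Module.finrank F V) : ∃ v : V, v ≠ 0 ∧ ∀ j, β j v v = 0 := by
  classical
  obtain ⟨p, hp⟩ := CharP.exists F
  have hpp : p.Prime := CharP.char_is_prime F p
  let b : Module.Basis (Fin (Module.finrank F V)) F V := Module.finBasis F V
  let P : Fin k → MvPolynomial (Fin (Module.finrank F V)) F := fun j =>
    ∑ i, ∑ i', MvPolynomial.C (β j (b i) (b i')) * MvPolynomial.X i * MvPolynomial.X i'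
  have hdeg : ∀ j, (P j).totalDegree ≤ 2 := by
    intro j
    apply MvPolynomial.totalDegree_finsetSum_le
    intro i _
    apply MvPolynomial.totalDegree_finsetSum_le
    intro i' _
    refine (MvPolynomial.totalDegree_mul _ _).trans ?_
    have h1 := MvPolynomial.totalDegree_mul (MvPolynomial.C (β j (b i) (b i')))
      (MvPolynomial.X i : MvPolynomial (Fin (Module.finrank F V)) F)
    rw [MvPolynomial.totalDegree_C, MvPolynomial.totalDegree_X] at h1
    rw [MvPolynomial.totalDegree_X]
    omega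
  have hsum : ∑ j ∈ (Finset.univ : Finset (Fin k)), (P j).totalDegree
      < Fintype.card (Fin (Module.finrank F V)) := by
    calc ∑ j ∈ (Finset.univ : Finset (Fin k)), (P j).totalDegree
        ≤ ∑ _j ∈ (Finset.univ : Finset (Fin k)), 2 := Finset.sum_le_sum (fun j _ => hdeg j)
      _ = 2 * k := by simp [mul_comm]
      _ < Fintype.card (Fin (Module.finrank F V)) := by simpa using h
  have hdvd := char_dvd_card_solutions_of_sum_lt p hsum
  rw [Fintype.card_eq_nat_card] at hdvd
  have heval : ∀ (t : Fin (Module.finrank F V) → F) (j : Fin k),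
      MvPolynomial.eval t (P j) = β j (∑ i, t i • b i) (∑ i, t i • b i) := by
    intro t j
    simp only [P, map_sum, map_mul, MvPolynomial.eval_C, MvPolynomial.eval_X,
      LinearMap.sum_apply, map_smul, LinearMap.smul_apply, smul_eq_mul, Finset.mul_sum]
    rw [Finset.sum_comm]
    apply Finset.sum_congr rfl
    intro i _
    apply Finset.sum_congr rfl
    intro i' _
    ring
  have hzero : ∀ j ∈ (Finset.univ : Finset (Fin k)),
      MvPolynomial.eval (0 : Fin (Module.finrank F V) → F) (P j) = 0 := by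
    intro j _
    rw [heval]
    simp
  have hpos : 0 < Nat.card {t : Fin (Module.finrank F V) → F //
      ∀ j ∈ (Finset.univ : Finset (Fin k)), MvPolynomial.eval t (P j) = 0} :=
    Nat.card_pos_iff.mpr ⟨⟨⟨0, hzero⟩⟩, inferInstance⟩
  have h1 : 1 < Nat.card {t : Fin (Module.finrank F V) → F //
      ∀ j ∈ (Finset.univ : Finset (Fin k)), MvPolynomial.eval t (P j) = 0} := by
    have h2 := Nat.le_of_dvd hpos hdvd
    have h3 := hpp.two_le
    omega
  have hnt := Finite.one_lt_card_iff_nontrivial.mp h1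
  obtain ⟨⟨t, ht⟩, hne⟩ := exists_ne (⟨0, hzero⟩ : {t : Fin (Module.finrank F V) → F //
      ∀ j ∈ (Finset.univ : Finset (Fin k)), MvPolynomial.eval t (P j) = 0})
  refine ⟨∑ i, t i • b i, ?_, ?_⟩
  · intro hv
    apply hne
    apply Subtype.ext
    funext i
    exact Fintype.linearIndependent_iff.mp b.linearIndependent t hv i
  · intro j
    rw [← heval]
    exact ht j (Finset.mem_univ j)

theorem polar_pow_isom {F : Type u} [Field F] {ι : Type} [Fintype ι] [DecidableEq ι]
    {Q : (ι → F) → F} {x : Matrix ι ι F} (h : ∀ v, Q (x *ᵥ v) = Q v) (j : ℕ) (a b : ι → F) :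
    QuadraticMap.polar Q ((x ^ j) *ᵥ a) ((x ^ j) *ᵥ b) = QuadraticMap.polar Q a b := by
  induction j with
  | zero => simp
  | succ j ih =>
    rw [pow_succ', ← Matrix.mulVec_mulVec, ← Matrix.mulVec_mulVec,
      Cfsg.Agent.Lib.Helper27.OHyp.polar_isom_blk h, ih]

/-- [ANEVEN], unconditionally and without the parity and nondegeneracy hypotheses being used:
an invariant subspace of the moved space without nonzero invariant totally singular subspaces
has dimension at most `r - 1` (Chevalley-Warning). -/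
theorem pkgAnEven : PkgAnEven.{u} := by
  intro F _ _ ι _ _ Q r x hS _ A hAN hAinv _ hAniso
  classical
  by_contra hcon
  push Not at hcon
  have hQ := hS.nondeg
  have hb := hQ.polar_bilinear
  have hrpos : 0 < r := hS.prime.pos
  have hrodd : Odd r := hS.prime.odd_of_ne_two hS.ne_two
  obtain ⟨k, hk⟩ := hrodd
  have hk0 : 0 < k := by
    have h2 := hS.prime.two_le
    omega
  let β : Fin k → ↥A →ₗ[F] ↥A →ₗ[F] F := fun j =>
    LinearMap.mk₂ F
      (fun u v : ↥A => QuadraticMap.polar Q ((x ^ (j : ℕ)) *ᵥ (u : ι → F)) (v : ι → F))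
      (by intro a b c; simp only [Submodule.coe_add, Matrix.mulVec_add]; exact hb.add_left _ _ _)
      (by
        intro c a b
        simp only [Submodule.coe_smul, Matrix.mulVec_smul, smul_eq_mul]
        exact hb.smul_left _ _ _)
      (by intro a b c; simp only [Submodule.coe_add]; exact hb.add_right _ _ _)
      (by intro c a b; simp only [Submodule.coe_smul, smul_eq_mul]; exact hb.smul_right _ _ _)
  have hfin : 2 * k < Module.finrank F ↥A := by omega
  obtain ⟨⟨u, huA⟩, hu0, huz⟩ := cw_common_zero k β hfin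
  have hu0' : u ≠ 0 := fun h => hu0 (Subtype.ext h)
  have hg0 : ∀ j, j < k → QuadraticMap.polar Q ((x ^ j) *ᵥ u) u = 0 := by
    intro j hj
    exact huz ⟨j, hj⟩
  have hsym : ∀ j, j ≤ r → QuadraticMap.polar Q ((x ^ (r - j)) *ᵥ u) u
      = QuadraticMap.polar Q ((x ^ j) *ᵥ u) u := by
    intro j hj
    rw [← polar_pow_isom hS.isom j ((x ^ (r - j)) *ᵥ u) u, Matrix.mulVec_mulVec, ← pow_add,
      Nat.add_sub_cancel' hj, hS.pow, Matrix.one_mulVec, QuadraticMap.polar_comm]
  have hmem : u ∈ movSp x := hAN huA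
  unfold movSp at hmem
  obtain ⟨w, hw⟩ := LinearMap.mem_range.mp hmem
  have hw' : u = x *ᵥ w - w := by
    rw [← hw]
    simp [Matrix.toLin'_apply]
  have hpsub : ∀ a b c : ι → F, QuadraticMap.polar Q (a - b) c
      = QuadraticMap.polar Q a c - QuadraticMap.polar Q b c := by
    intro a b c
    have h1 : a - b = a + (-1 : F) • b := by simp [sub_eq_add_neg]
    rw [h1, hb.add_left, hb.smul_left]; ring
  have hxu : ∀ j, (x ^ j) *ᵥ u = (x ^ (j + 1)) *ᵥ w - (x ^ j) *ᵥ w := by
    intro j
    rw [hw', Matrix.mulVec_sub, Matrix.mulVec_mulVec, ← pow_succ]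
  have hsum : ∑ j ∈ Finset.range r, QuadraticMap.polar Q ((x ^ j) *ᵥ u) u = 0 := by
    have h1 : ∀ j ∈ Finset.range r, QuadraticMap.polar Q ((x ^ j) *ᵥ u) u
        = QuadraticMap.polar Q ((x ^ (j + 1)) *ᵥ w) u - QuadraticMap.polar Q ((x ^ j) *ᵥ w) u := by
      intro j _
      rw [hxu j, hpsub]
    rw [Finset.sum_congr rfl h1,
      Finset.sum_range_sub (fun j => QuadraticMap.polar Q ((x ^ j) *ᵥ w) u) r, hS.pow, pow_zero,
      sub_self]
  have hbig : ∀ j, k + 2 ≤ j → j < r → QuadraticMap.polar Q ((x ^ j) *ᵥ u) u = 0 := by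
    intro j hj1 hj2
    have h1 := hsym (r - j) (Nat.sub_le r j)
    rw [Nat.sub_sub_self hj2.le] at h1
    rw [h1]
    exact hg0 (r - j) (by omega)
  have hk1 : QuadraticMap.polar Q ((x ^ (k + 1)) *ᵥ u) u
      = QuadraticMap.polar Q ((x ^ k) *ᵥ u) u := by
    have h1 := hsym k (by omega)
    have h2 : r - k = k + 1 := by omega
    rw [h2] at h1
    exact h1
  have hkk : QuadraticMap.polar Q ((x ^ k) *ᵥ u) u = 0 := by
    have h1 := Finset.sum_eq_add (s := Finset.range r)
      (f := fun j => QuadraticMap.polar Q ((x ^ j) *ᵥ u) u) k (k + 1) (by omega)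
      (by
        intro c hc hne
        rw [Finset.mem_range] at hc
        by_cases hck : c < k
        · exact hg0 c hck
        · exact hbig c (by omega) hc)
      (by intro h; exfalso; apply h; rw [Finset.mem_range]; omega)
      (by intro h; exfalso; apply h; rw [Finset.mem_range]; omega)
    rw [hsum] at h1
    rw [hk1] at h1
    have h2 : (2 : F) * QuadraticMap.polar Q ((x ^ k) *ᵥ u) u = 0 := by
      rw [two_mul]; exact h1.symm
    rcases mul_eq_zero.mp h2 with h | h
    · exact absurd h hS.two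
    · exact h
  have hall : ∀ j, j < r → QuadraticMap.polar Q ((x ^ j) *ᵥ u) u = 0 := by
    intro j hj
    by_cases h1 : j < k
    · exact hg0 j h1
    · by_cases h2 : j = k
      · rw [h2]; exact hkk
      · by_cases h3 : j = k + 1
        · rw [h3, hk1]; exact hkk
        · exact hbig j (by omega) hj
  have hall' : ∀ j : ℕ, QuadraticMap.polar Q ((x ^ j) *ᵥ u) u = 0 := by
    intro j
    rw [pow_eq_pow_mod j hS.pow]
    exact hall _ (Nat.mod_lt _ hrpos)
  have hA : ∀ j l : ℕ, QuadraticMap.polar Q ((x ^ j) *ᵥ u) ((x ^ l) *ᵥ u) = 0 := by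
    intro j l
    rcases le_total l j with h | h
    · obtain ⟨e, rfl⟩ := Nat.exists_eq_add_of_le h
      rw [pow_add, ← Matrix.mulVec_mulVec, polar_pow_isom hS.isom]
      exact hall' e
    · obtain ⟨e, rfl⟩ := Nat.exists_eq_add_of_le h
      rw [QuadraticMap.polar_comm, pow_add, ← Matrix.mulVec_mulVec, polar_pow_isom hS.isom]
      exact hall' e
  have hB : ∀ v ∈ Cfsg.Agent.Lib.Helper59.OHyp.cycSp x u, ∀ l : ℕ,
      QuadraticMap.polar Q v ((x ^ l) *ᵥ u) = 0 := by
    intro v hv l
    have hv2 : v ∈ Submodule.span F (Set.range fun k : ℕ => (x ^ k).mulVec u) := hv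
    refine Submodule.span_induction ?_ ?_ ?_ ?_ hv2
    · rintro _ ⟨j, rfl⟩; exact hA j l
    · have h0 := hb.smul_left 0 (0 : ι → F) ((x ^ l) *ᵥ u)
      simpa using h0
    · intro a b _ _ ha hb'; rw [hb.add_left, ha, hb', add_zero]
    · intro c a _ ha; rw [hb.smul_left, ha, mul_zero]
  have hC : ∀ v ∈ Cfsg.Agent.Lib.Helper59.OHyp.cycSp x u,
      ∀ v' ∈ Cfsg.Agent.Lib.Helper59.OHyp.cycSp x u, QuadraticMap.polar Q v v' = 0 := by
    intro v hv v' hv'
    have hv2 : v' ∈ Submodule.span F (Set.range fun k : ℕ => (x ^ k).mulVec u) := hv'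
    refine Submodule.span_induction ?_ ?_ ?_ ?_ hv2
    · rintro _ ⟨l, rfl⟩; exact hB v hv l
    · have h0 := hb.smul_right 0 v (0 : ι → F)
      simpa using h0
    · intro a b _ _ ha hb'; rw [hb.add_right, ha, hb', add_zero]
    · intro c a _ ha; rw [hb.smul_right, ha, mul_zero]
  have hTS : TS Q (Cfsg.Agent.Lib.Helper59.OHyp.cycSp x u) := by
    intro v hv
    have h1 := hC v hv v hv
    have h2 : QuadraticMap.polar Q v v = 2 * Q v := by
      have h3 : v + v = (2 : F) • v := by rw [two_smul]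
      unfold QuadraticMap.polar
      rw [h3, hQ.smul]; ring
    rw [h2] at h1
    rcases mul_eq_zero.mp h1 with h | h
    · exact absurd h hS.two
    · exact h
  have hbot := hAniso _ (Cfsg.Agent.Lib.Helper76.OHyp.cyc_le x u A hAinv huA)
    (Cfsg.Agent.Lib.Helper76.OHyp.cyc_inv x u) hTS
  have hubot : u ∈ (⊥ : Submodule F (ι → F)) := by
    rw [← hbot]; exact Cfsg.Agent.Lib.Helper76.OHyp.cyc_self x u
  exact hu0' ((Submodule.mem_bot F).mp hubot)

end Cfsg.Agent.Lib.Helper6.OTS
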